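/-
Elementary facts on constructible sets, subspaces, noetherian spaces.
-/
import Mathlib

set_option autoImplicit false

universe u

open Topology TopologicalSpace Set

namespace Groth.Agent.ConsSet

variable {X : Type u} [TopologicalSpace X]

/-- A constructible set is a finite union of differences of retrocompact opens. -/
theorem exists_diff_rep {s : Set X} (hs : IsConstructible s) :
    ∃ (n : ℕ) (A B : Fin n → Set X), (∀ i, IsOpen (A i) ∧ IsRetrocompact (A i)) ∧
      (∀ i, IsOpen (B i) ∧ IsRetrocompact (B i)) ∧ s = ⋃ i, A i \ B i := by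
  have hsub : IsSublattice {U : Set X | IsOpen U ∧ IsRetrocompact U} :=
    ⟨fun a ha b hb => ⟨ha.1.union hb.1, ha.2.union hb.2⟩,
      fun a ha b hb => ⟨ha.1.inter hb.1, ha.2.inter_isOpen hb.2 hb.1⟩⟩
  obtain ⟨t, rfl⟩ := (BooleanSubalgebra.mem_closure_iff_sup_sdiff hsub
    ⟨isOpen_empty, IsRetrocompact.empty⟩ ⟨isOpen_univ, IsRetrocompact.univ⟩).1 hs
  refine ⟨t.card, fun i => (t.equivFin.symm i).1.1.1, fun i => (t.equivFin.symm i).1.2.1,
    fun i => (t.equivFin.symm i).1.1.2, fun i => (t.equivFin.symm i).1.2.2, ?_⟩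
  ext x
  simp only [Finset.sup_set_eq_biUnion, mem_iUnion]
  exact ⟨fun ⟨p, hp, hx⟩ => ⟨t.equivFin ⟨p, hp⟩, by simpa using hx⟩,
    fun ⟨i, hx⟩ => ⟨_, (t.equivFin.symm i).2, hx⟩⟩

theorem isRetrocompact {s : Set X} (hs : IsConstructible s) : IsRetrocompact s := by
  obtain ⟨n, A, B, hA, hB, rfl⟩ := exists_diff_rep hs
  refine IsRetrocompact.iUnion fun i => fun U hUc hUo => ?_
  rw [diff_eq, inter_right_comm]
  exact ((hA i).2 hUc hUo).inter_right (hB i).1.isClosed_compl

/-- Finite unions of locally closed sets. -/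
theorem exists_lc_rep {s : Set X} (hs : IsConstructible s) :
    ∃ (n : ℕ) (L : Fin n → Set X), (∀ i, IsLocallyClosed (L i)) ∧ s = ⋃ i, L i := by
  obtain ⟨n, A, B, hA, hB, rfl⟩ := exists_diff_rep hs
  exact ⟨n, fun i => A i \ B i, fun i => ⟨A i, (B i)ᶜ, (hA i).1, (hB i).1.isClosed_compl, diff_eq _ _⟩, rfl⟩

/-- A locally closed set dense in an irreducible set contains a dense trace of an open. -/
theorem exists_open_of_dense {Z : Set X} (hZ : IsIrreducible Z) {n : ℕ} (L : Fin n → Set X)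
    (hL : ∀ i, IsLocallyClosed (L i)) (h : Z ⊆ closure ((⋃ i, L i) ∩ Z)) :
    ∃ U : Set X, IsOpen U ∧ U ∩ Z ⊆ (⋃ i, L i) ∧ Z ⊆ closure (U ∩ Z) := by
  classical
  obtain ⟨z, hz, hZz⟩ := (isIrreducible_iff_sUnion_isClosed.1 hZ)
    ((Finset.univ : Finset (Fin n)).image fun i => closure (L i ∩ Z))
    (fun z hz => by obtain ⟨i, -, rfl⟩ := Finset.mem_image.1 hz; exact isClosed_closure)
    (by rwa [Finset.coe_image, Finset.coe_univ, image_univ, sUnion_range, ← closure_iUnion_of_finite, ← iUnion_inter])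
  obtain ⟨i, -, rfl⟩ := Finset.mem_image.1 hz
  obtain ⟨O, C, hO, hC, hOC⟩ := hL i
  have hZC : Z ⊆ C := hZz.trans (closure_minimal (fun x hx => (hOC.le hx.1).2) hC)
  have heq : O ∩ Z = L i ∩ Z := by
    rw [hOC]
    exact Subset.antisymm (fun x hx => ⟨⟨hx.1, hZC hx.2⟩, hx.2⟩) fun x hx => ⟨hx.1.1, hx.2⟩
  exact ⟨O, hO, fun x hx => mem_iUnion.2 ⟨i, ((heq.le hx)).1⟩, by rwa [heq]⟩

/-- Noetherian induction criterion for neighbourhoods. -/
theorem mem_nhds_of_irreducible [NoetherianSpace X] {E : Set X} {x : X}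
    (h : ∀ Y : Set X, IsClosed Y → IsIrreducible Y → x ∈ Y → ∃ U : Set X, IsOpen U ∧ (U ∩ Y).Nonempty ∧ U ∩ Y ⊆ E) :
    E ∈ nhds x := by
  suffices key : ∀ Y : Closeds X, x ∈ Y → ∃ O : Set X, IsOpen O ∧ x ∈ O ∧ O ∩ Y ⊆ E by
    obtain ⟨O, hO, hxO, hOE⟩ := key ⊤ trivial
    exact mem_nhds_iff.2 ⟨O, fun y hy => hOE ⟨hy, trivial⟩, hO, hxO⟩
  intro Y
  induction Y using WellFoundedLT.induction with
  | _ Y ih =>
    intro hxY
    have hsmall : ∀ Y' : Closeds X, Y' < Y → ∃ O : Set X, IsOpen O ∧ x ∈ O ∧ O ∩ Y' ⊆ E := fun Y' hlt => by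
      by_cases hx : x ∈ Y'
      · exact ih Y' hlt hx
      · exact ⟨(Y' : Set X)ᶜ, Y'.isClosed.isOpen_compl, hx, fun y hy => absurd hy.2 hy.1⟩
    by_cases hirr : IsIrreducible (Y : Set X)
    · obtain ⟨U, hU, ⟨u, hu⟩, hUE⟩ := h _ Y.isClosed hirr hxY
      by_cases hxU : x ∈ U
      · exact ⟨U, hU, hxU, hUE⟩
      have hlt : (⟨(Y : Set X) \ U, Y.isClosed.sdiff hU⟩ : Closeds X) < Y :=
        lt_of_le_of_ne (fun y hy => hy.1) fun e => ((SetLike.ext_iff.1 e u).2 hu.2).2 hu.1
      obtain ⟨O, hO, hxO, hOE⟩ := hsmall _ hlt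
      refine ⟨O, hO, hxO, fun y hy => ?_⟩
      by_cases hyU : y ∈ U
      · exact hUE ⟨hyU, hy.2⟩
      · exact hOE ⟨hy.1, hy.2, hyU⟩
    · have hne : (Y : Set X).Nonempty := ⟨x, hxY⟩
      rw [IsIrreducible, and_iff_right hne, isPreirreducible_iff_isClosed_union_isClosed] at hirr
      push Not at hirr
      obtain ⟨A, B, hA, hB, hsub, hAn, hBn⟩ := hirr
      obtain ⟨O₁, hO₁, hx₁, hE₁⟩ := hsmall ⟨(Y : Set X) ∩ A, Y.isClosed.inter hA⟩
        (lt_of_le_of_ne (fun y hy => hy.1) fun e => hAn fun y hy => ((SetLike.ext_iff.1 e y).2 hy).2)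
      obtain ⟨O₂, hO₂, hx₂, hE₂⟩ := hsmall ⟨(Y : Set X) ∩ B, Y.isClosed.inter hB⟩
        (lt_of_le_of_ne (fun y hy => hy.1) fun e => hBn fun y hy => ((SetLike.ext_iff.1 e y).2 hy).2)
      refine ⟨O₁ ∩ O₂, hO₁.inter hO₂, ⟨hx₁, hx₂⟩, fun y hy => ?_⟩
      rcases hsub hy.2 with h' | h'
      · exact hE₁ ⟨hy.1.1, hy.2, h'⟩
      · exact hE₂ ⟨hy.1.2, hy.2, h'⟩

/-- Traces of compact opens cover compact opens of a subspace. -/
theorem exists_compact_open [PrespectralSpace X] (T : Set X) (A : Set T) (hA : IsOpen A) (hAc : IsCompact A) :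
    ∃ O : Set X, IsOpen O ∧ IsCompact O ∧ A = Subtype.val ⁻¹' O := by
  obtain ⟨O, hO, rfl⟩ := isOpen_induced_iff.1 hA
  choose W hW hxW hWO using fun a : (Subtype.val ⁻¹' O : Set T) =>
    (PrespectralSpace.isTopologicalBasis (X := X)).exists_subset_of_mem_open (show a.1.1 ∈ O from a.2) hO
  obtain ⟨t, ht⟩ := hAc.elim_finite_subcover (fun a => Subtype.val ⁻¹' W a)
    (fun a => (hW a).1.preimage continuous_subtype_val) fun a ha => mem_iUnion.2 ⟨⟨a, ha⟩, hxW ⟨a, ha⟩⟩
  refine ⟨⋃ a ∈ t, W a, isOpen_biUnion fun a _ => (hW a).1, t.finite_toSet.isCompact_biUnion fun a _ => (hW a).2,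
    Subset.antisymm (by simpa only [preimage_iUnion] using ht) ?_⟩
  simp only [preimage_iUnion, iUnion_subset_iff]
  exact fun a _ => preimage_mono (hWO a)

theorem preimage_isRetrocompact [PrespectralSpace X] {T U : Set X} (hT : IsRetrocompact T)
    (hU : IsOpen U) (hUr : IsRetrocompact U) : IsRetrocompact (Subtype.val ⁻¹' U : Set T) := by
  intro A hAc hAo
  obtain ⟨O, hO, hOc, rfl⟩ := exists_compact_open T A hAo hAc
  rw [← preimage_inter, IsInducing.subtypeVal.isCompact_iff, Subtype.image_preimage_coe]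
  exact hT (hUr hOc hO) (hU.inter hO)

theorem preimage_isConstructible [PrespectralSpace X] {T E : Set X} (hT : IsRetrocompact T)
    (hE : IsConstructible E) : IsConstructible (Subtype.val ⁻¹' E : Set T) :=
  hE.preimage continuous_subtype_val fun _ hs hsr => preimage_isRetrocompact hT hs hsr

theorem prespectral_subtype [PrespectralSpace X] {T : Set X} (hT : IsRetrocompact T) :
    PrespectralSpace T := by
  refine .of_isTopologicalBasis
    ((PrespectralSpace.isTopologicalBasis (X := X)).isInducing IsInducing.subtypeVal) ?_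
  rintro _ ⟨U, hU, rfl⟩
  rw [IsInducing.subtypeVal.isCompact_iff, Subtype.image_preimage_coe]
  exact hT hU.2 hU.1

/-- A constructible subset of a constructible subspace is constructible. -/
theorem image_isConstructible [PrespectralSpace X] {E : Set X} (hE : IsConstructible E) {F : Set E}
    (hF : IsConstructible F) : IsConstructible (Subtype.val '' F : Set X) := by
  haveI := prespectral_subtype (isRetrocompact hE)
  obtain ⟨n, A, B, hA, hB, hEq⟩ := exists_diff_rep hE
  have key : ∀ i, IsConstructible (Subtype.val '' F ∩ (A i \ B i)) := by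
    intro i
    have hsub : A i \ B i ⊆ E := fun x hx => hEq ▸ mem_iUnion.2 ⟨i, hx⟩
    have hD : IsConstructible (A i \ B i) :=
      ((hA i).2.isConstructible (hA i).1).sdiff ((hB i).2.isConstructible (hB i).1)
    -- pull back to the piece
    let g : (A i \ B i : Set X) → E := fun x => ⟨x.1, hsub x.2⟩
    have hg : IsConstructible (g ⁻¹' F) := by
      refine hF.preimage (continuous_subtype_val.subtype_mk _) fun s hs hsr => ?_
      intro W hWc hWo
      obtain ⟨O, hO, hOc, rfl⟩ := exists_compact_open _ W hWo hWc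
      have h1 : IsCompact (Subtype.val ⁻¹' O : Set E) := by
        rw [IsInducing.subtypeVal.isCompact_iff, Subtype.image_preimage_coe]
        exact isRetrocompact hE hOc hO
      obtain ⟨O', hO', hOc', hO'eq⟩ := exists_compact_open E (s ∩ Subtype.val ⁻¹' O)
        (hs.inter (hO.preimage continuous_subtype_val)) (hsr h1 (hO.preimage continuous_subtype_val))
      have h2 : g ⁻¹' s ∩ Subtype.val ⁻¹' O = Subtype.val ⁻¹' O' := by
        ext ⟨x, hx⟩
        exact Set.ext_iff.1 hO'eq ⟨x, hsub hx⟩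
      rw [h2, IsInducing.subtypeVal.isCompact_iff, Subtype.image_preimage_coe]
      exact isRetrocompact hD hOc' hO'
    let b : (A i \ B i : Set X) → (A i : Set X) := fun x => ⟨x.1, x.2.1⟩
    have hbr : range b = (Subtype.val ⁻¹' B i : Set (A i : Set X))ᶜ := by
      ext ⟨x, hx⟩
      exact ⟨fun ⟨y, hy⟩ => by have : y.1 = x := congrArg Subtype.val hy; exact this ▸ y.2.2,
        fun h => ⟨⟨x, hx, h⟩, rfl⟩⟩
    have hb : IsClosedEmbedding b := by
      refine ⟨?_, ?_⟩
      · exact IsEmbedding.of_comp (continuous_subtype_val.subtype_mk _) continuous_subtype_val IsEmbedding.subtypeVal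
      · rw [hbr]; exact ((hB i).1.preimage continuous_subtype_val).isClosed_compl
    have h3 : IsConstructible (b '' (g ⁻¹' F)) := hg.image_of_isClosedEmbedding hb (by
      rw [hbr, compl_compl]; exact preimage_isRetrocompact (hA i).2 (hB i).1 (hB i).2)
    have h4 := h3.image_of_isOpenEmbedding (hA i).1.isOpenEmbedding_subtypeVal
      (by rw [Subtype.range_coe]; exact (hA i).2)
    convert h4 using 1
    ext x
    constructor
    · rintro ⟨⟨y, hy, rfl⟩, hxD⟩
      exact ⟨b ⟨y.1, hxD⟩, ⟨⟨y.1, hxD⟩, hy, rfl⟩, rfl⟩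
    · rintro ⟨_, ⟨⟨y, hy⟩, hyF, rfl⟩, rfl⟩
      exact ⟨⟨⟨y, hsub hy⟩, hyF, rfl⟩, hy⟩
  have : (Subtype.val '' F : Set X) = ⋃ i, Subtype.val '' F ∩ (A i \ B i) := by
    rw [← inter_iUnion, ← hEq, inter_eq_left.2 (Subtype.coe_image_subset _ _)]
  rw [this]
  exact IsConstructible.iUnion key

end Groth.Agent.ConsSet
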